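import Groth.Agent.L17.BC.Fibre

/-!
# Uniform bounds for fibre cohomology over an affine open above which a module is flat
-/

set_option autoImplicit false
set_option linter.style.haveILetI false
set_option linter.unusedSectionVars false
set_option backward.isDefEq.respectTransparency false

universe u

open CategoryTheory CategoryTheory.Limits AlgebraicGeometry TopologicalSpace Opposite
open scoped TensorProduct

noncomputable section

namespace Groth.L17.UBound

open Groth.L17.BC
open Groth.L01.FlatCx (bc)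

section Homology

variable {A : Type u} [CommRing A]

/-- Homology after base change to a field is bounded by the rank of the term. -/
theorem finrank_homology_bc_le (P : CochainComplex (ModuleCat.{u} A) ℤ)
    (hP : ∀ i, Module.Finite A (P.X i) ∧ Module.Free A (P.X i)) (k : Type u) [Field k] [Algebra A k] (j : ℤ) :
    Module.finrank k ((bc k P).homology j : Type u) ≤ Module.finrank A (P.X j) := by
  haveI := (hP j).1
  haveI := (hP j).2
  haveI : Module.Finite k ((bc k P).X j) := Groth.L01.FlatCx.finite_bc k P j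
  haveI : Nontrivial A := (algebraMap A k).domain_nontrivial
  have h : Module.finrank k ((bc k P).X j) = Module.finrank A (P.X j) :=
    ((Groth.L01.FlatCx.bcE k (P.X j)).finrank_eq).trans Module.finrank_baseChange
  rw [← h]
  exact (LinearMap.finrank_le_finrank_of_surjective (Groth.L01.FlatCx.cls'_surjective (bc k P) j)).trans
    (Submodule.finrank_le _)

end Homology

variable {X Y : Scheme.{u}} (f : X ⟶ Y) {V : Y.Opens} (hV : IsAffineOpen V) (F : X.Modules) [Coh.IsQCoh F]
  (hfl : ∀ x, f.base x ∈ V → FlatMod.IsFlatOverAt f F x)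

include hfl in
theorem flat_appLE_on {W : X.Opens} (hW : IsAffineOpen W) (hWV : W ≤ f ⁻¹ᵁ V) (hV' : IsAffineOpen V) :
    letI : Module Γ(Y, V) Γ(F, W) := Module.compHom Γ(F, W) (f.appLE V W hWV).hom
    Module.Flat Γ(Y, V) Γ(F, W) := by
  letI : Algebra Γ(Y, V) Γ(X, W) := (f.appLE V W hWV).hom.toAlgebra
  letI : Module Γ(Y, V) Γ(F, W) := Module.compHom Γ(F, W) (f.appLE V W hWV).hom
  haveI : IsScalarTower Γ(Y, V) Γ(X, W) Γ(F, W) := IsScalarTower.of_algebraMap_smul fun _ _ => rfl
  refine Module.flat_of_isLocalized_maximal (R := Γ(Y, V)) Γ(X, W) Γ(F, W)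
    (fun P _ => LocalizedModule P.primeCompl Γ(F, W))
    (fun P _ => LocalizedModule.mkLinearMap P.primeCompl Γ(F, W)) fun P hP => ?_
  obtain ⟨x, hx, e⟩ : ∃ (x : X) (hx : x ∈ W), (hW.primeIdealOf ⟨x, hx⟩).asIdeal = P := by
    have hm : hW.fromSpec ⟨P, hP.isPrime⟩ ∈ W := by
      have : hW.fromSpec ⟨P, hP.isPrime⟩ ∈ Set.range hW.fromSpec := ⟨_, rfl⟩
      rwa [hW.range_fromSpec] at this
    exact ⟨_, hm, congrArg (fun p : Spec Γ(X, W) => p.asIdeal)
      (hW.fromSpec.isOpenEmbedding.injective (a₁ := hW.primeIdealOf _) (hW.fromSpec_primeIdealOf _))⟩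
  subst e
  exact (Groth.L20.ModStalk.isFlatOverAt_iff f F hV' hW hWV hx).1 (hfl x (hWV hx))

include hfl in
theorem flat_sec_FV_on {W' : (↑(f ⁻¹ᵁ V) : Scheme.{u}).Opens} (hW' : IsAffineOpen W') :
    Module.Flat Γ(Y, V) (Sec (Coh.toGlobal (A := Γ(Y, V)) (fV f hV)) (FV f (V := V) F) W') := by
  let j := (f ⁻¹ᵁ V).ι
  have hWV : j ''ᵁ W' ≤ f ⁻¹ᵁ V := by
    rintro _ ⟨x, -, rfl⟩
    exact x.2
  have key : (Scheme.ΓSpecIso Γ(Y, V)).inv ≫ (fV f hV).appLE ⊤ W' le_top ≫ (j.appIso W').inv =
      f.appLE V (j ''ᵁ W') hWV := by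
    rw [← Category.assoc, Iso.comp_inv_eq, Scheme.Hom.appIso_hom', Scheme.Hom.appLE_comp_appLE]
    have h1 : (Scheme.ΓSpecIso Γ(Y, V)).inv = hV.fromSpec.appLE V ⊤ hV.fromSpec_preimage_self.ge := by
      rw [Scheme.Hom.appLE, hV.fromSpec_app_self, Category.assoc, ← Functor.map_comp]
      exact ((congrArg ((Scheme.ΓSpecIso Γ(Y, V)).inv ≫ ·) ((Spec Γ(Y, V)).presheaf.map_id _)).trans
        (Category.comp_id _)).symm
    rw [h1, Scheme.Hom.appLE_comp_appLE]
    congr 1
    exact fV_fromSpec f hV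
  have h := flat_appLE_on f F hfl (hW'.image_of_isOpenImmersion j) hWV hV
  letI : Module Γ(Y, V) Γ(F, j ''ᵁ W') := Module.compHom _ (f.appLE V (j ''ᵁ W') hWV).hom
  haveI : Module.Flat Γ(Y, V) Γ(F, j ''ᵁ W') := h
  refine Module.Flat.of_linearEquiv (M := Γ(F, j ''ᵁ W')) ?_
  exact
    { (AddEquiv.refl Γ(F, j ''ᵁ W')) with
      map_smul' := fun a s => by
        show (j.appIso W').inv (act (Coh.toGlobal (A := Γ(Y, V)) (fV f hV)) W' a) • (show Γ(F, j ''ᵁ W') from s) =
          f.appLE V (j ''ᵁ W') hWV a • (show Γ(F, j ''ᵁ W') from s)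
        rw [← key]
        rfl }

include hV hfl in
/-- A module flat above an affine open has bounded fibre cohomology there, uniformly in the degree. -/
theorem exists_fiberRank_bound [IsProper f] [IsLocallyNoetherian Y] (hF : Coh.IsCoh F) :
    ∃ C : ℕ, ∀ y ∈ V, ∀ p : ℕ, CohIII.fiberRank f F p y ≤ C := by
  haveI : IsNoetherianRing Γ(Y, V) := IsLocallyNoetherian.component_noetherian ⟨V, hV⟩
  let g₀ : ↑(f ⁻¹ᵁ V) ⟶ Spec (CommRingCat.of Γ(Y, V)) := fV f hV
  haveI : IsProper g₀ := inferInstanceAs (IsProper (fV f hV))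
  have hFV := isCoh_FV (V := V) f hF
  haveI : Coh.IsQCoh (FV f (V := V) F) := hFV.1
  obtain ⟨m⟩ := nonempty_model g₀ (FV f (V := V) F) hFV fun W hW => flat_sec_FV_on f hV F hfl hW
  let r : ℕ → ℕ := fun p => Module.finrank Γ(Y, V) (m.L.X (p : ℤ))
  refine ⟨∑ p ∈ Finset.range (m.top + 1).toNat, r p, fun y hy p => ?_⟩
  obtain ⟨g, hg, sq, -⟩ := exists_fibre_square f hV y hy
  letI : Algebra Γ(Y, V) (Y.residueField y) := (Y.evaluation V y hy).hom.toAlgebra
  let f' : f.fiber y ⟶ Spec (CommRingCat.of (Y.residueField y)) := f.fiberToSpecResidueField y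
  have sq' : IsPullback g f' g₀ (Spec.map (CommRingCat.ofHom (algebraMap Γ(Y, V) (Y.residueField y)))) := sq
  letI : Module (Y.residueField y) (Coh.HH (f.fiber y) ((Scheme.Modules.pullback g).obj (FV f (V := V) F)) p) :=
    Module.compHom _ (Coh.toGlobal f')
  let e : (Scheme.Modules.pullback g).obj (FV f (V := V) F) ≅ CohIII.fiberMod f F y :=
    (Scheme.Modules.pullback g).mapIso ((Scheme.Modules.restrictFunctorIsoPullback _).app F) ≪≫
      (Scheme.Modules.pullbackComp g (f ⁻¹ᵁ V).ι).app F ≪≫ (Scheme.Modules.pullbackCongr hg).app F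
  let E : Coh.HH (f.fiber y) ((Scheme.Modules.pullback g).obj (FV f (V := V) F)) p ≃ₗ[Y.residueField y]
      CohIII.fiberH f F y p :=
    { (HHequiv e p).toAddEquiv with
      map_smul' := fun a x => (HHequiv e p).map_smul (Coh.toGlobal f' a) x }
  obtain ⟨e'⟩ := m.exists_equiv f' g sq' p
  have hle : CohIII.fiberRank f F p y ≤ r p := by
    rw [CohIII.fiberRank, ← E.finrank_eq, ← e'.finrank_eq]
    exact finrank_homology_bc_le m.L m.finiteFree (Y.residueField y) (p : ℤ)
  by_cases hp : p < (m.top + 1).toNat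
  · exact hle.trans (Finset.single_le_sum (fun _ _ => Nat.zero_le _) (Finset.mem_range.2 hp))
  · haveI := ModuleCat.subsingleton_of_isZero (m.isZero_above (p : ℤ) (by omega))
    haveI : Nontrivial Γ(Y, V) := (algebraMap Γ(Y, V) (Y.residueField y)).domain_nontrivial
    have hr : r p = 0 := Module.finrank_zero_of_subsingleton
    omega

end Groth.L17.UBound
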