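import Groth.Agent.L03.Euler.Basic
import Groth.Agent.L11.Bdd.Exact
import Groth.Agent.L16.AffineBC.Pullback
import Groth.Prelude.Def_ega3

/-!
# Fibre ranks in short exact sequences flat at a fibre
-/

set_option autoImplicit false
set_option linter.style.haveILetI false
set_option linter.unusedSectionVars false
set_option backward.isDefEq.respectTransparency false
set_option backward.isDefEq.respectTransparency.types false

universe u

open CategoryTheory CategoryTheory.Limits AlgebraicGeometry TensorProduct Groth.L16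

noncomputable section

namespace Groth.L17.UBound

section Field

variable {k : Type u} [Field k] {X : Scheme.{u}} [X.Over (Spec (CommRingCat.of k))]
  [IsProper (X ↘ Spec (CommRingCat.of k))] {S : ShortComplex X.Modules} (hS : S.ShortExact)
  (h₁ : Coh.IsCoh S.X₁) (h₂ : Coh.IsCoh S.X₂) (h₃ : Coh.IsCoh S.X₃) {a b : ℕ}

include hS h₁ h₂ h₃

theorem h_mid_le (ha : ∀ i, Module.finrank k (Coh.HH X S.X₁ i) ≤ a)
    (hb : ∀ i, Module.finrank k (Coh.HH X S.X₃ i) ≤ b) (i : ℕ) :
    Module.finrank k (Coh.HH X S.X₂ i) ≤ a + b := by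
  haveI := ProperFinite.finite_HH k h₁ i
  haveI := ProperFinite.finite_HH k h₂ i
  haveI := ProperFinite.finite_HH k h₃ i
  rw [Groth.L03.Euler.finrank_eq_add (CohLinear.overLin k (CohLinear.hmap S.f i))
    (CohLinear.overLin k (CohLinear.hmap S.g i)) (CohLinear.exact_hmap_hmap hS i)]
  exact Nat.add_le_add ((LinearMap.finrank_range_le _).trans (ha i)) ((Submodule.finrank_le _).trans (hb i))

theorem h_left_le (ha : ∀ i, Module.finrank k (Coh.HH X S.X₂ i) ≤ a)
    (hb : ∀ i, Module.finrank k (Coh.HH X S.X₃ i) ≤ b) (i : ℕ) :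
    Module.finrank k (Coh.HH X S.X₁ i) ≤ a + b := by
  haveI := ProperFinite.finite_HH k h₂ i
  rcases i with _ | j
  · refine le_trans ?_ (Nat.le_add_right_of_le (ha 0))
    exact LinearMap.finrank_le_finrank_of_injective (f := CohLinear.overLin k (CohLinear.hmap S.f 0))
      (Groth.L03.Euler.injective_hmap_zero hS)
  · haveI := ProperFinite.finite_HH k h₁ (j + 1)
    haveI := ProperFinite.finite_HH k h₃ j
    rw [Groth.L03.Euler.finrank_eq_add (CohLinear.overLin k (CohLinear.delta hS j))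
      (CohLinear.overLin k (CohLinear.hmap S.f (j + 1))) (CohLinear.exact_delta_hmap hS j)]
    exact (Nat.add_le_add ((LinearMap.finrank_range_le _).trans (hb j))
      ((Submodule.finrank_le _).trans (ha (j + 1)))).trans (Nat.add_comm b a).le

theorem h_right_le (ha : ∀ i, Module.finrank k (Coh.HH X S.X₁ i) ≤ a)
    (hb : ∀ i, Module.finrank k (Coh.HH X S.X₂ i) ≤ b) (i : ℕ) :
    Module.finrank k (Coh.HH X S.X₃ i) ≤ a + b := by
  haveI := ProperFinite.finite_HH k h₁ (i + 1)
  haveI := ProperFinite.finite_HH k h₂ i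
  haveI := ProperFinite.finite_HH k h₃ i
  rw [Groth.L03.Euler.finrank_eq_add (CohLinear.overLin k (CohLinear.hmap S.g i))
    (CohLinear.overLin k (CohLinear.delta hS i)) (CohLinear.exact_hmap_delta hS i)]
  exact (Nat.add_le_add ((LinearMap.finrank_range_le _).trans (hb i))
    ((Submodule.finrank_le _).trans (ha (i + 1)))).trans (Nat.add_comm b a).le

end Field

variable {X S X' S' : Scheme.{u}} {f : X ⟶ S} {f' : X' ⟶ S'} {g' : X' ⟶ X} {g : S' ⟶ S}

/-- A monomorphism with cokernel flat over the image of a base change remains one after it. -/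
theorem mono_pullback_on (hc : IsPullback g' f' f g) {T : ShortComplex X.Modules} (hT : T.ShortExact)
    (h3 : ∀ x', FlatMod.IsFlatOverAt f T.X₃ (g' x')) : Mono ((Scheme.Modules.pullback g').map T.f) := by
  refine (Groth.L21.Mod.mono_iff_stalk_injective _).2 fun x' => ?_
  obtain ⟨W, V, W', U, eV, eW, eU, eU', hW, hV, hW', hU, hxU, hpo⟩ := Groth.L20.ModStalk.exists_affine_square hc x'
  algebraize [(f.appLE W V eV).hom, (g.appLE W W' eW).hom, (g'.appLE V U eU).hom, (f'.appLE W' U eU').hom,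
    ((g'.appLE V U eU).hom.comp (f.appLE W V eV).hom)]
  haveI : IsScalarTower Γ(S, W) Γ(S', W') Γ(X', U) := IsScalarTower.of_algebraMap_eq' (congrArg CommRingCat.Hom.hom hpo.w)
  haveI : Algebra.IsPushout Γ(S, W) Γ(X, V) Γ(S', W') Γ(X', U) := CommRingCat.isPushout_iff_isPushout.mp hpo
  haveI : Algebra.IsPushout Γ(S, W) Γ(S', W') Γ(X, V) Γ(X', U) := Algebra.IsPushout.symm ‹_›
  have hxV : g' x' ∈ V := eU hxU
  letI := X.presheaf.algebra_section_stalk ⟨g' x', hxV⟩
  haveI hlocV := hV.isLocalization_stalk ⟨g' x', hxV⟩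
  letI := X'.presheaf.algebra_section_stalk ⟨x', hxU⟩
  haveI := hU.isLocalization_stalk ⟨x', hxU⟩
  haveI : Module.Flat Γ(X', U) (X'.presheaf.stalk x') :=
    IsLocalization.flat _ (hU.primeIdealOf ⟨x', hxU⟩).asIdeal.primeCompl
  letI : Algebra (X.presheaf.stalk (g' x')) (X'.presheaf.stalk x') := (Groth.L00.PullStalk.φ g' x').toAlgebra
  letI : Algebra Γ(X, V) (X'.presheaf.stalk x') :=
    ((algebraMap Γ(X', U) (X'.presheaf.stalk x')).comp (algebraMap Γ(X, V) Γ(X', U))).toAlgebra
  haveI : IsScalarTower Γ(X, V) Γ(X', U) (X'.presheaf.stalk x') := IsScalarTower.of_algebraMap_eq fun _ => rfl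
  haveI : IsScalarTower Γ(X, V) (X.presheaf.stalk (g' x')) (X'.presheaf.stalk x') :=
    IsScalarTower.of_algebraMap_eq fun r => (Groth.L20.ModStalk.stalkMap_germ eU hxU (eU hxU) r).symm
  let χ : Γ(S, W) →+* X.presheaf.stalk (g' x') :=
    (X.presheaf.germ V (g' x') hxV).hom.comp (f.appLE W V eV).hom
  let Sm := (hV.primeIdealOf ⟨g' x', hxV⟩).asIdeal.primeCompl
  let Fs := Groth.L00.Stk.F X (g' x')
  have hs : (T.map Fs).ShortExact := hT.map_of_exact Fs
  let M₁ := Fs.obj T.X₁
  let M₂ := Fs.obj T.X₂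
  let M₃ := Fs.obj T.X₃
  letI := Module.compHom M₁ χ
  letI := Module.compHom M₂ χ
  letI := Module.compHom M₃ χ
  letI := Module.compHom M₁ (algebraMap Γ(X, V) (X.presheaf.stalk (g' x')))
  letI := Module.compHom M₂ (algebraMap Γ(X, V) (X.presheaf.stalk (g' x')))
  letI := Module.compHom M₃ (algebraMap Γ(X, V) (X.presheaf.stalk (g' x')))
  haveI : IsScalarTower Γ(X, V) (X.presheaf.stalk (g' x')) M₁ := IsScalarTower.of_algebraMap_smul fun _ _ => rfl
  haveI : IsScalarTower Γ(X, V) (X.presheaf.stalk (g' x')) M₂ := IsScalarTower.of_algebraMap_smul fun _ _ => rfl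
  haveI : IsScalarTower Γ(S, W) Γ(X, V) M₁ := IsScalarTower.of_algebraMap_smul fun _ _ => rfl
  haveI : IsScalarTower Γ(S, W) Γ(X, V) M₂ := IsScalarTower.of_algebraMap_smul fun _ _ => rfl
  haveI : Module.Flat Γ(S, W) M₃ :=
    (Groth.L20.ModStalk.isFlatOverAt_iff_sections f T.X₃ hW eV hxV).1 (h3 x')
  let d₁ : M₁ →ₗ[Γ(S, W)] M₂ :=
    { toFun := (Fs.map T.f).hom, map_add' := map_add _, map_smul' := fun r m => map_smul (Fs.map T.f).hom (χ r) m }
  let d₂ : M₂ →ₗ[Γ(S, W)] M₃ :=
    { toFun := (Fs.map T.g).hom, map_add' := map_add _, map_smul' := fun r m => map_smul (Fs.map T.g).hom (χ r) m }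
  have hr : Function.Injective (d₁.rTensor Γ(S', W')) :=
    Groth.L01.FlatCx.rTensor_injective_of_flat_quot (g := d₂) hs.moduleCat_injective_f hs.moduleCat_surjective_g
      ((ShortComplex.ShortExact.moduleCat_exact_iff_function_exact _).1 hs.exact) Γ(S', W')
  have hl : Function.Injective (d₁.lTensor Γ(S', W')) := fun a b hab => by
    apply (TensorProduct.comm _ _ _).injective
    apply hr
    exact (LinearMap.congr_fun (LinearMap.rTensor_comp_comm d₁) a).trans
      ((congrArg (TensorProduct.comm _ _ _) hab).trans (LinearMap.congr_fun (LinearMap.rTensor_comp_comm d₁) b).symm)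
  let z : PUnit.{u + 1} →ₗ[X.presheaf.stalk (g' x')] M₁ := 0
  letI := Module.compHom PUnit.{u + 1} χ
  have hexact : Function.Exact ((0 : PUnit.{u + 1} →ₗ[Γ(S, W)] M₁).lTensor Γ(S', W')) (d₁.lTensor Γ(S', W')) := by
    intro y
    refine ⟨fun hy => ⟨0, ?_⟩, ?_⟩
    · rw [map_zero]; exact (hl (hy.trans (map_zero _).symm)).symm
    · rintro ⟨w, rfl⟩
      rw [LinearMap.lTensor_zero, LinearMap.zero_apply, map_zero]
  have h := Groth.L29.DC.RelBC.exact_lTensor_of_pushout Γ(S, W) Γ(S', W') Γ(X, V) Γ(X', U) Sm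
    (X.presheaf.stalk (g' x')) (X'.presheaf.stalk x') z (Fs.map T.f).hom (0 : PUnit.{u + 1} →ₗ[Γ(S, W)] M₁) d₁
    (fun _ => rfl) (fun _ => rfl) hexact
  have hinj : Function.Injective ((ModuleCat.extendScalars (Groth.L00.PullStalk.φ g' x')).map (Fs.map T.f)) := by
    refine (injective_iff_map_eq_zero _).2 fun y hy => ?_
    obtain ⟨w, hw⟩ := (h y).1 hy
    rw [← hw, LinearMap.lTensor_zero, LinearMap.zero_apply]
  haveI : Mono ((ModuleCat.extendScalars (Groth.L00.PullStalk.φ g' x')).map (Fs.map T.f)) :=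
    (ModuleCat.mono_iff_injective _).2 hinj
  have hm : Mono ((Scheme.Modules.pullback g' ⋙ Groth.L00.Stk.F X' x').map T.f) := by
    rw [← NatIso.naturality_2 (Groth.L00.PullStalk.stalkIso g' x') T.f]
    haveI : Mono ((Fs ⋙ ModuleCat.extendScalars (Groth.L00.PullStalk.φ g' x')).map T.f) := ‹_›
    infer_instance
  exact (ModuleCat.mono_iff_injective ((Scheme.Modules.pullback g' ⋙ Groth.L00.Stk.F X' x').map T.f)).1 hm

theorem shortExact_pullback_on (hc : IsPullback g' f' f g) {T : ShortComplex X.Modules} (hT : T.ShortExact)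
    (h3 : ∀ x', FlatMod.IsFlatOverAt f T.X₃ (g' x')) : (T.map (Scheme.Modules.pullback g')).ShortExact := by
  haveI := (Scheme.Modules.pullbackPushforwardAdjunction g').isLeftAdjoint
  haveI := hT.epi_g
  exact { exact := hT.exact.map_of_epi_of_preservesCokernel _ inferInstance inferInstance
          mono_f := mono_pullback_on hc hT h3
          epi_g := inferInstanceAs (Epi ((Scheme.Modules.pullback g').map T.g)) }

section Fibre

variable (f) [IsProper f] [IsLocallyNoetherian S]

theorem isProper_fiber (t : S) : IsProper (f.fiberToSpecResidueField t) :=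
  MorphismProperty.pullback_snd _ _ inferInstance

theorem isCoh_fiberMod {M : X.Modules} (hM : Coh.IsCoh M) (t : S) : Coh.IsCoh (CohIII.fiberMod f M t) := by
  haveI : IsLocallyNoetherian X := LocallyOfFiniteType.isLocallyNoetherian f
  haveI := isProper_fiber f t
  haveI : IsLocallyNoetherian (f.fiber t) :=
    LocallyOfFiniteType.isLocallyNoetherian (f.fiberToSpecResidueField t)
  exact Groth.L16.AffineBC.isCoh_pullback (f.fiberι t) hM

theorem shortExact_fiber {T : ShortComplex X.Modules} (hT : T.ShortExact) (t : S)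
    (h3 : ∀ x, f.base x = t → FlatMod.IsFlatOverAt f T.X₃ x) :
    (T.map (Scheme.Modules.pullback (f.fiberι t))).ShortExact :=
  shortExact_pullback_on (IsPullback.of_hasPullback f (S.fromSpecResidueField t)) hT fun x' =>
    h3 _ ((f.range_fiberι t).le ⟨x', rfl⟩)

/-- The fibre, as a scheme over the residue field. -/
@[reducible] def fibOver (t : S) : (f.fiber t).Over (Spec (CommRingCat.of (S.residueField t))) :=
  ⟨f.fiberToSpecResidueField t⟩

theorem isProper_fibOver (t : S) :
    letI := fibOver f t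
    IsProper ((f.fiber t) ↘ Spec (CommRingCat.of (S.residueField t))) :=
  isProper_fiber f t

theorem rk_eq (M : X.Modules) (i : ℕ) (t : S) :
    letI := fibOver f t
    CohIII.fiberRank f M i t =
      Module.finrank (S.residueField t) (Coh.HH (f.fiber t) (CohIII.fiberMod f M t) i) :=
  rfl

variable {f} {T : ShortComplex X.Modules} (hT : T.ShortExact) (h₁ : Coh.IsCoh T.X₁) (h₂ : Coh.IsCoh T.X₂)
  (h₃ : Coh.IsCoh T.X₃) {t : S} (hfl : ∀ x, f.base x = t → FlatMod.IsFlatOverAt f T.X₃ x) {a b : ℕ}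

include hT h₁ h₂ h₃ hfl

theorem rk_mid_le (ha : ∀ i, CohIII.fiberRank f T.X₁ i t ≤ a) (hb : ∀ i, CohIII.fiberRank f T.X₃ i t ≤ b)
    (i : ℕ) : CohIII.fiberRank f T.X₂ i t ≤ a + b := by
  letI := fibOver f t
  haveI := isProper_fibOver f t
  simp only [rk_eq] at ha hb ⊢
  exact h_mid_le (k := (S.residueField t : Type u)) (shortExact_fiber f hT t hfl) (isCoh_fiberMod f h₁ t)
    (isCoh_fiberMod f h₂ t) (isCoh_fiberMod f h₃ t) ha hb i

theorem rk_left_le (ha : ∀ i, CohIII.fiberRank f T.X₂ i t ≤ a) (hb : ∀ i, CohIII.fiberRank f T.X₃ i t ≤ b)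
    (i : ℕ) : CohIII.fiberRank f T.X₁ i t ≤ a + b := by
  letI := fibOver f t
  haveI := isProper_fibOver f t
  simp only [rk_eq] at ha hb ⊢
  exact h_left_le (k := (S.residueField t : Type u)) (shortExact_fiber f hT t hfl) (isCoh_fiberMod f h₁ t)
    (isCoh_fiberMod f h₂ t) (isCoh_fiberMod f h₃ t) ha hb i

theorem rk_right_le (ha : ∀ i, CohIII.fiberRank f T.X₁ i t ≤ a) (hb : ∀ i, CohIII.fiberRank f T.X₂ i t ≤ b)
    (i : ℕ) : CohIII.fiberRank f T.X₃ i t ≤ a + b := by
  letI := fibOver f t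
  haveI := isProper_fibOver f t
  simp only [rk_eq] at ha hb ⊢
  exact h_right_le (k := (S.residueField t : Type u)) (shortExact_fiber f hT t hfl) (isCoh_fiberMod f h₁ t)
    (isCoh_fiberMod f h₂ t) (isCoh_fiberMod f h₃ t) ha hb i

end Fibre

end Groth.L17.UBound
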