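import Groth.Agent.L17.UBound.Base
import Groth.Agent.L17.UBound.Rank
import Groth.Agent.L03.Euler.Poly
import Groth.Agent.L19.SupportPullback
import Groth.Agent.L20.ModFlat

/-!
# Uniform bounds for fibre cohomology of twists over a dense open of an integral base
-/

set_option autoImplicit false
set_option linter.style.haveILetI false
set_option linter.unusedSectionVars false
set_option backward.isDefEq.respectTransparency false
set_option backward.isDefEq.respectTransparency.types false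

universe u

open CategoryTheory CategoryTheory.Limits AlgebraicGeometry TopologicalSpace Groth.L16 Groth.L03.Euler

noncomputable section

namespace Groth.L17.UBound

/-! ## The size of a multi-index -/

/-- The total size of a multi-index. -/
def size {r : ℕ} (a : Fin r → ℤ) : ℕ := ∑ j, (a j).natAbs

/-- The comparison function: zero in degree zero, then powers of the size plus one. -/
def gd (d s : ℕ) : ℕ := if d = 0 then 0 else (s + 1) ^ (d - 1)

theorem gd_succ (d s : ℕ) : gd (d + 1) s = (s + 1) ^ d := by simp [gd]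

theorem gd_mono {d s s' : ℕ} (h : s ≤ s') : gd d s ≤ gd d s' := by
  rcases d with _ | e
  · simp [gd]
  · rw [gd_succ, gd_succ]; exact Nat.pow_le_pow_left (by omega) e

theorem gd_le_gd {d d' : ℕ} (h : d ≤ d') (s : ℕ) : gd d s ≤ gd d' s := by
  rcases d with _ | e
  · simp [gd]
  · obtain ⟨e', rfl⟩ : ∃ e', d' = e' + 1 := ⟨d' - 1, by omega⟩
    rw [gd_succ, gd_succ]
    exact Nat.pow_le_pow_right (by omega) (by omega)

theorem mul_gd_le (d s : ℕ) : s * gd d s ≤ gd (d + 1) s := by
  rcases d with _ | e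
  · simp [gd]
  · rw [gd_succ, gd_succ, pow_succ']
    exact Nat.mul_le_mul_right _ (Nat.le_succ s)

theorem size_eq_zero {r : ℕ} {a : Fin r → ℤ} (h : size a = 0) : a = 0 :=
  funext fun j => Int.natAbs_eq_zero.1 (Finset.sum_eq_zero_iff.1 h j (Finset.mem_univ j))

theorem size_update {r : ℕ} (a : Fin r → ℤ) (j : Fin r) (ε : ℤ) :
    size (a + Pi.single j ε) + (a j).natAbs = size a + (a j + ε).natAbs := by
  unfold size
  rw [← Finset.add_sum_erase _ _ (Finset.mem_univ j), ← Finset.add_sum_erase _ _ (Finset.mem_univ j)]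
  have : ∀ x ∈ Finset.univ.erase j, ((a + Pi.single j ε : Fin r → ℤ) x).natAbs = (a x).natAbs := fun x hx => by
    simp [Pi.single_eq_of_ne (Finset.ne_of_mem_erase hx)]
  rw [Finset.sum_congr rfl this]
  simp only [Pi.add_apply, Pi.single_eq_same]
  omega

/-! ## Elementary properties of fibre ranks -/

variable {X T : Scheme.{u}} (f : X ⟶ T)

theorem rk_congr {M M' : X.Modules} (e : M ≅ M') (i : ℕ) (t : T) :
    CohIII.fiberRank f M i t = CohIII.fiberRank f M' i t := by
  letI := fibOver f t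
  exact finrank_HH_of_iso (k := (T.residueField t : Type u)) ((Scheme.Modules.pullback (f.fiberι t)).mapIso e) i

theorem rk_eq_zero {M : X.Modules} [Coh.IsQCoh M] (hM : CohB1.IsFT M) {t : T}
    (h : ∀ x ∈ CohB1.support M, f.base x ≠ t) (i : ℕ) : CohIII.fiberRank f M i t = 0 := by
  letI := fibOver f t
  unfold CohIII.fiberRank
  have hz : IsZero (CohIII.fiberMod f M t) := by
    refine (Groth.L21.Mod.isZero_iff_support_eq_empty _).2 ?_
    rw [show CohIII.fiberMod f M t = (Scheme.Modules.pullback (f.fiberι t)).obj M from rfl,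
      Groth.L19.SupportPullback.support_pullback _ M hM]
    exact Set.eq_empty_of_forall_notMem fun x hx =>
      h _ hx ((f.range_fiberι t).le ⟨x, rfl⟩)
  haveI := subsingleton_HH_of_isZero hz i
  exact Module.finrank_zero_of_subsingleton

/-- Flatness over the base is not changed by an invertible twist. -/
theorem isFlatOverAt_tensor {L M : X.Modules} (hL : PicF.IsInvertible L) {x : X}
    (h : FlatMod.IsFlatOverAt f M x) : FlatMod.IsFlatOverAt f (CohB1.tensorMod M L) x := by
  obtain ⟨e⟩ := nonempty_stalk_tensor hL M x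
  let R := ModuleCat.restrictScalars.{u} (f.stalkMap x).hom
  haveI : Module.Flat (T.presheaf.stalk (f x)) (R.obj ((Groth.L00.Stk.F X x).obj M)) := h
  exact (Module.Flat.of_linearEquiv (R.mapIso e.toModuleIso).symm.toLinearEquiv :
    Module.Flat (T.presheaf.stalk (f x)) (R.obj ((Groth.L00.Stk.F X x).obj (CohB1.tensorMod M L))))

/-! ## The dimension of the generic fibre of a closed subset -/

variable [IsProper f] [IsNoetherian T] [IsIntegral T]

/-- The dimension of the generic fibre of a subset. -/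
def gdim (S : Set X) : WithBot ℕ∞ := topologicalKrullDim ↥((f.fiberι (genericPoint T)).base ⁻¹' S)

theorem mem_of_nonempty {U : T.Opens} (h : (U : Set T).Nonempty) : genericPoint T ∈ U :=
  ((genericPoint_spec T).mem_open_set_iff U.2).2 (by simpa using h)

omit [IsIntegral T] in
theorem isNoetherian_source {X : Scheme.{u}} (f : X ⟶ T) [IsProper f] : IsNoetherian X := by
  haveI : IsLocallyNoetherian X := LocallyOfFiniteType.isLocallyNoetherian f
  haveI : CompactSpace X := QuasiCompact.compactSpace_of_compactSpace f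
  exact {}

theorem exists_generic_flat {M : X.Modules} (hM : Coh.IsCoh M) :
    ∃ U : T.Opens, genericPoint T ∈ U ∧ ∀ x, f.base x ∈ U → FlatMod.IsFlatOverAt f M x := by
  haveI := hM.1
  obtain ⟨U, hU, hfl⟩ := Groth.L20.ModStalk.exists_generic_flat f M fun V hV =>
    Groth.L20.ModStalk.finite_sections M hM hV
  exact ⟨U, mem_of_nonempty hU, hfl⟩

variable {r : ℕ} (N : (Fin r → ℤ) → X.Modules)

/-- Twisted fibre ranks are bounded by `C` times the comparison function near the generic point. -/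
def Bdd (d : ℕ) (M : X.Modules) : Prop :=
  ∃ U : T.Opens, genericPoint T ∈ U ∧ ∃ C : ℕ, ∀ t ∈ U, ∀ (a : Fin r → ℤ) (i : ℕ),
    CohIII.fiberRank f (CohB1.tensorMod M (N a)) i t ≤ C * gd d (size a)

/-- Twisted fibre ranks of `A` are at most those of `B`, up to the comparison function. -/
def Le (d : ℕ) (A B : X.Modules) : Prop :=
  ∃ U : T.Opens, genericPoint T ∈ U ∧ ∃ C : ℕ, ∀ t ∈ U, ∀ (a : Fin r → ℤ) (b : ℕ),
    (∀ i, CohIII.fiberRank f (CohB1.tensorMod B (N a)) i t ≤ b) →
      ∀ i, CohIII.fiberRank f (CohB1.tensorMod A (N a)) i t ≤ b + C * gd d (size a)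

variable {f N} (hN : ∀ a, PicF.IsInvertible (N a))

theorem Bdd.mono {d d' : ℕ} (h : d ≤ d') {M : X.Modules} : Bdd f N d M → Bdd f N d' M := by
  rintro ⟨U, hU, C, hC⟩
  exact ⟨U, hU, C, fun t ht a i => (hC t ht a i).trans (Nat.mul_le_mul_left _ (gd_le_gd h _))⟩

theorem Bdd.of_iso {d : ℕ} {M M' : X.Modules} (e : M ≅ M') : Bdd f N d M → Bdd f N d M' := by
  rintro ⟨U, hU, C, hC⟩
  exact ⟨U, hU, C, fun t ht a i =>
    (rk_congr f (Groth.L00.Tensor.tensorIso e (Iso.refl _)).symm i t).le.trans (hC t ht a i)⟩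

theorem Le.trans {d : ℕ} {A B C : X.Modules} : Le f N d A B → Le f N d B C → Le f N d A C := by
  rintro ⟨U, hU, c, h⟩ ⟨U', hU', c', h'⟩
  refine ⟨U ⊓ U', ⟨hU, hU'⟩, c' + c, fun t ht a b hb i => ?_⟩
  refine (h t ht.1 a _ (h' t ht.2 a b hb) i).trans ?_
  rw [add_mul, add_assoc]

include hN

/-- Coherence of twists. -/
theorem isCoh_twist [IsLocallyNoetherian X] {M : X.Modules} (hM : Coh.IsCoh M) (a : Fin r → ℤ) :
    Coh.IsCoh (CohB1.tensorMod M (N a)) :=
  isCoh_tensor (hN a) hM

variable {S : ShortComplex X.Modules} (hS : S.ShortExact) (h₁ : Coh.IsCoh S.X₁) (h₂ : Coh.IsCoh S.X₂)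
  (h₃ : Coh.IsCoh S.X₃)

include hS h₁ h₂ h₃

theorem Bdd.two_out_of_three (d : ℕ) :
    (Bdd f N d S.X₁ → Bdd f N d S.X₂ → Bdd f N d S.X₃) ∧ (Bdd f N d S.X₁ → Bdd f N d S.X₃ → Bdd f N d S.X₂) ∧
      (Bdd f N d S.X₂ → Bdd f N d S.X₃ → Bdd f N d S.X₁) := by
  haveI := isNoetherian_source f
  obtain ⟨U, hU, hfl⟩ := exists_generic_flat f h₃
  have hse := fun a => shortExact_tensor (hN a) hS
  have hc₁ := fun a => isCoh_twist hN h₁ a
  have hc₂ := fun a => isCoh_twist hN h₂ a
  have hc₃ := fun a => isCoh_twist hN h₃ a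
  have hfl' : ∀ t ∈ U, ∀ a x, f.base x = t → FlatMod.IsFlatOverAt f (CohB1.tensorMod S.X₃ (N a)) x :=
    fun t ht a x hx => isFlatOverAt_tensor f (hN a) (hfl x (hx ▸ ht))
  refine ⟨?_, ?_, ?_⟩
  · rintro ⟨V, hV, c, h⟩ ⟨V', hV', c', h'⟩
    refine ⟨U ⊓ (V ⊓ V'), ⟨hU, hV, hV'⟩, c + c', fun t ht a i => ?_⟩
    rw [add_mul]
    exact rk_right_le (hse a) (hc₁ a) (hc₂ a) (hc₃ a) (hfl' t ht.1 a) (h t ht.2.1 a) (h' t ht.2.2 a) i
  · rintro ⟨V, hV, c, h⟩ ⟨V', hV', c', h'⟩
    refine ⟨U ⊓ (V ⊓ V'), ⟨hU, hV, hV'⟩, c + c', fun t ht a i => ?_⟩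
    rw [add_mul]
    exact rk_mid_le (hse a) (hc₁ a) (hc₂ a) (hc₃ a) (hfl' t ht.1 a) (h t ht.2.1 a) (h' t ht.2.2 a) i
  · rintro ⟨V, hV, c, h⟩ ⟨V', hV', c', h'⟩
    refine ⟨U ⊓ (V ⊓ V'), ⟨hU, hV, hV'⟩, c + c', fun t ht a i => ?_⟩
    rw [add_mul]
    exact rk_left_le (hse a) (hc₁ a) (hc₂ a) (hc₃ a) (hfl' t ht.1 a) (h t ht.2.1 a) (h' t ht.2.2 a) i

theorem Le.of_bdd_sub {d : ℕ} (hb : Bdd f N d S.X₁) : Le f N d S.X₂ S.X₃ ∧ Le f N d S.X₃ S.X₂ := by
  haveI := isNoetherian_source f
  obtain ⟨U, hU, hfl⟩ := exists_generic_flat f h₃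
  obtain ⟨V, hV, c, h⟩ := hb
  have hfl' : ∀ t ∈ U, ∀ a x, f.base x = t → FlatMod.IsFlatOverAt f (CohB1.tensorMod S.X₃ (N a)) x :=
    fun t ht a x hx => isFlatOverAt_tensor f (hN a) (hfl x (hx ▸ ht))
  refine ⟨⟨U ⊓ V, ⟨hU, hV⟩, c, fun t ht a b hb i => ?_⟩, ⟨U ⊓ V, ⟨hU, hV⟩, c, fun t ht a b hb i => ?_⟩⟩ <;>
    rw [add_comm]
  · exact rk_mid_le (shortExact_tensor (hN a) hS) (isCoh_twist hN h₁ a) (isCoh_twist hN h₂ a)
      (isCoh_twist hN h₃ a) (hfl' t ht.1 a) (h t ht.2 a) hb i
  · exact rk_right_le (shortExact_tensor (hN a) hS) (isCoh_twist hN h₁ a) (isCoh_twist hN h₂ a)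
      (isCoh_twist hN h₃ a) (hfl' t ht.1 a) (h t ht.2 a) hb i

theorem Le.of_bdd_quot {d : ℕ} (hb : Bdd f N d S.X₃) : Le f N d S.X₁ S.X₂ ∧ Le f N d S.X₂ S.X₁ := by
  haveI := isNoetherian_source f
  obtain ⟨U, hU, hfl⟩ := exists_generic_flat f h₃
  obtain ⟨V, hV, c, h⟩ := hb
  have hfl' : ∀ t ∈ U, ∀ a x, f.base x = t → FlatMod.IsFlatOverAt f (CohB1.tensorMod S.X₃ (N a)) x :=
    fun t ht a x hx => isFlatOverAt_tensor f (hN a) (hfl x (hx ▸ ht))
  refine ⟨⟨U ⊓ V, ⟨hU, hV⟩, c, fun t ht a b hb i => ?_⟩, ⟨U ⊓ V, ⟨hU, hV⟩, c, fun t ht a b hb i => ?_⟩⟩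
  · exact rk_left_le (shortExact_tensor (hN a) hS) (isCoh_twist hN h₁ a) (isCoh_twist hN h₂ a)
      (isCoh_twist hN h₃ a) (hfl' t ht.1 a) hb (h t ht.2 a) i
  · exact rk_mid_le (shortExact_tensor (hN a) hS) (isCoh_twist hN h₁ a) (isCoh_twist hN h₂ a)
      (isCoh_twist hN h₃ a) (hfl' t ht.1 a) hb (h t ht.2 a) i

omit hS h₁ h₂ h₃

/-- A map with small kernel and cokernel gives comparisons both ways. -/
theorem Le.of_map {d : ℕ} {A B : X.Modules} (hA : Coh.IsCoh A) (hB : Coh.IsCoh B) (a : A ⟶ B)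
    (hk : Bdd f N d (kernel a)) (hc : Bdd f N d (cokernel a)) : Le f N d A B ∧ Le f N d B A := by
  haveI := isNoetherian_source f
  haveI := hB.1
  have hkc := CohKernel.isCoh_kernel_cokernel hA hB a
  have hI := CohSupport.isCoh_image hA a
  obtain ⟨p, p'⟩ := Le.of_bdd_sub hN (Devissage.shortExact_kernel_image a) hkc.1 hA hI hk
  obtain ⟨q, q'⟩ := Le.of_bdd_quot hN (Devissage.shortExact_image_cokernel a) hI hB hkc.2 hc
  exact ⟨p.trans q, q'.trans p'⟩

variable {L : Fin r → X.Modules} (hNL : ∀ a j, Nonempty (N (a + Pi.single j 1) ≅ CohB1.tensorMod (N a) (L j)))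

include hNL

theorem rk_shift (G : X.Modules) (a : Fin r → ℤ) (j : Fin r) (i : ℕ) (t : T) :
    CohIII.fiberRank f (CohB1.tensorMod (CohB1.tensorMod G (L j)) (N a)) i t =
      CohIII.fiberRank f (CohB1.tensorMod G (N (a + Pi.single j 1))) i t := by
  obtain ⟨e⟩ := hNL a j
  exact rk_congr f (Groth.L00.Tensor.tensorAssoc _ _ _ ≪≫ Groth.L00.Tensor.tensorIso (Iso.refl G)
    (Groth.L00.Tensor.tensorComm _ _ ≪≫ e.symm)) i t

/-- If twisting by each `L j` changes a module little, its twists are bounded one degree higher. -/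
theorem Bdd.of_shift {d : ℕ} {G : X.Modules} (hG : Coh.IsCoh G)
    (h : ∀ j, Le f N d (CohB1.tensorMod G (L j)) G ∧ Le f N d G (CohB1.tensorMod G (L j))) :
    Bdd f N (d + 1) G := by
  haveI := isNoetherian_source f
  choose U hU C hC using fun j => (h j).1
  choose U' hU' C' hC' using fun j => (h j).2
  have hG0 := isCoh_twist hN hG 0
  obtain ⟨W, hW, hfl⟩ := exists_generic_flat f hG0
  obtain ⟨_, ⟨V, hV, rfl⟩, hηV, hVW⟩ := T.isBasis_affineOpens.exists_subset_of_mem_open hW W.2
  haveI := hG0.1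
  obtain ⟨C₀, hC₀⟩ := exists_fiberRank_bound f hV _ (fun x hx => hfl x (hVW hx)) hG0
  let Us : T.Opens := ⟨⋂ j, ((U j : Set T) ∩ U' j), isOpen_iInter_of_finite fun j => (U j).2.inter (U' j).2⟩
  let K := ∑ j, (C j + C' j)
  have hK : ∀ j, C j ≤ K ∧ C' j ≤ K := fun j =>
    have := Finset.single_le_sum (f := fun j => C j + C' j) (fun _ _ => Nat.zero_le _) (Finset.mem_univ j)
    ⟨(Nat.le_add_right _ _).trans this, (Nat.le_add_left _ _).trans this⟩
  have key : ∀ t ∈ Us, t ∈ V → ∀ (s : ℕ) (a : Fin r → ℤ), size a = s → ∀ i,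
      CohIII.fiberRank f (CohB1.tensorMod G (N a)) i t ≤ C₀ + s * (K * gd d s) := by
    intro t ht htV s
    have ht' : ∀ j, t ∈ U j ∧ t ∈ U' j := Set.mem_iInter.1 ht
    induction s with
    | zero =>
      intro a ha i
      rw [size_eq_zero ha, Nat.zero_mul, Nat.add_zero]
      exact hC₀ t htV i
    | succ s ih =>
      intro a ha i
      obtain ⟨j, hj⟩ : ∃ j, a j ≠ 0 := by
        by_contra hc
        push Not at hc
        simp [size, hc] at ha
      have hmono : s * (K * gd d s) ≤ s * (K * gd d (s + 1)) :=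
        Nat.mul_le_mul_left _ (Nat.mul_le_mul_left _ (gd_mono (Nat.le_succ s)))
      rw [Nat.succ_mul, ← add_assoc]
      rcases lt_or_gt_of_ne hj with hneg | hpos
      · have hs' : size (a + Pi.single j 1) = s := by
          have := size_update a j 1
          omega
        have hb : ∀ i, CohIII.fiberRank f (CohB1.tensorMod (CohB1.tensorMod G (L j)) (N a)) i t ≤
            C₀ + s * (K * gd d s) := fun i => (rk_shift hN hNL G a j i t).le.trans (ih _ hs' i)
        refine (hC' j t (ht' j).2 a _ hb i).trans ?_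
        rw [ha]
        exact Nat.add_le_add (Nat.add_le_add_left hmono _) (Nat.mul_le_mul_right _ (hK j).2)
      · have e : a + Pi.single j (-1) + Pi.single j 1 = a := by
          rw [add_assoc, ← Pi.single_add]; simp
        have hs' : size (a + Pi.single j (-1)) = s := by
          have := size_update a j (-1)
          omega
        rw [← e, ← rk_shift hN hNL]
        refine (hC j t (ht' j).1 _ _ (ih _ hs') i).trans ?_
        rw [hs']
        exact Nat.add_le_add (Nat.add_le_add_left hmono _)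
          ((Nat.mul_le_mul_right _ (hK j).1).trans (Nat.mul_le_mul_left _ (gd_mono (Nat.le_succ s))))
  refine ⟨Us ⊓ V, ⟨Set.mem_iInter.2 fun j => ⟨hU j, hU' j⟩, hηV⟩, C₀ + K, fun t ht a i => ?_⟩
  refine (key t ht.1 ht.2 (size a) a rfl i).trans ?_
  rw [add_mul, ← mul_assoc, mul_comm (size a) K, mul_assoc]
  refine Nat.add_le_add (Nat.le_mul_of_pos_right _ ?_) (Nat.mul_le_mul_left _ (mul_gd_le d _))
  rw [gd_succ]
  positivity

omit hNL in
/-- A module whose support misses the generic fibre. -/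
theorem Bdd.of_gdim_le_zero {M : X.Modules} (hM : Coh.IsCoh M)
    (h : gdim f (CohB1.support M) + 1 ≤ (0 : ℕ)) : Bdd f N 0 M := by
  haveI := isNoetherian_source f
  have hcl : IsClosed (f.base '' CohB1.support M) :=
    f.isClosedMap _ (CohSupport.isClosed_support M hM.2)
  refine ⟨⟨(f.base '' CohB1.support M)ᶜ, hcl.isOpen_compl⟩, ?_, 0, fun t ht a i => ?_⟩
  · rintro ⟨x, hx, hxη⟩
    obtain ⟨x', hx'⟩ : x ∈ Set.range (f.fiberι (genericPoint T)).base := (f.range_fiberι _).ge hxη
    have h0 : (0 : WithBot ℕ∞) + 1 ≤ (0 : ℕ) :=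
      (add_le_add_left (zero_le_topologicalKrullDim
        (S := (f.fiberι (genericPoint T)).base ⁻¹' CohB1.support M) ⟨x', show (f.fiberι (genericPoint T)).base x' ∈ CohB1.support M by rw [hx']; exact hx⟩) 1).trans h
    norm_num at h0
  · haveI := (isCoh_twist hN hM a).1
    rw [rk_eq_zero f (isCoh_twist hN hM a).2 (fun x hx he => ht ⟨x, support_tensor (hN a) M ▸ hx, he⟩) i]
    exact Nat.zero_le _

variable (hL : ∀ j, PicF.IsInvertible (L j))

include hL

/-- Twisted fibre ranks grow at most like the power of the dimension of the generic fibre of the support. -/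
theorem bdd_of_gdim_le : ∀ (d : ℕ) (M : X.Modules), Coh.IsCoh M →
    gdim f (CohB1.support M) + 1 ≤ d → Bdd f N d M := by
  haveI := isNoetherian_source f
  intro d
  induction d with
  | zero => exact fun M hM h => Bdd.of_gdim_le_zero hN hM h
  | succ d ih =>
    intro M hM hdim
    have hdim' : gdim f (CohB1.support M) ≤ d := by
      generalize gdim f (CohB1.support M) = t at hdim
      induction t using WithBot.recBotCoe with
      | bot => exact bot_le
      | coe t =>
        change ((t + 1 : ℕ∞) : WithBot ℕ∞) ≤ (((d + 1 : ℕ) : ℕ∞) : WithBot ℕ∞) at hdim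
        rw [WithBot.coe_le_coe, Nat.cast_add, Nat.cast_one,
          ENat.add_le_add_iff_right (by simp)] at hdim
        exact WithBot.coe_le_coe.2 hdim
    refine Devissage.devissage (Bdd f N (d + 1)) (CohSupport.isClosed_support M hM.2)
      (fun A B ⟨e⟩ h => h.of_iso e) (fun A hA => ?_) (fun S hS h₁ h₂ h₃ _ => Bdd.two_out_of_three hN hS h₁ h₂ h₃ _)
      (fun y hy => ?_) hM subset_rfl
    · refine (Bdd.of_gdim_le_zero hN (Devissage.isCoh_of_isZero hA) ?_).mono (Nat.zero_le _)
      rw [(Groth.L21.Mod.isZero_iff_support_eq_empty A).1 hA, gdim, Set.preimage_empty,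
        topologicalKrullDim_of_empty rfl]
      simp
    obtain ⟨Z, i, hi, hZ, hgen, hrange⟩ := CohClosedPush.exists_integral y
    haveI : IsLocallyNoetherian Z := LocallyOfFiniteType.isLocallyNoetherian i
    let G := (Coh.push i).obj (Coh.structureModule Z)
    have hG : Coh.IsCoh G := CohClosedPush.isCoh_push i CohClosedPush.isCoh_structure
    have hlG : CohSupport.len y G = 1 := hgen ▸ CohClosedPush.len_push_structure i
    have hsG : CohB1.support G ⊆ closure {y} :=
      (CohClosedPush.support_push_subset i _).trans hrange.le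
    refine ⟨G, hG, ?_, hsG, hlG⟩
    let ι := f.fiberι (genericPoint T)
    by_cases hy' : f.base y = genericPoint T
    swap
    · refine (Bdd.of_gdim_le_zero hN hG ?_).mono (Nat.zero_le _)
      rw [gdim, topologicalKrullDim_of_empty (Set.eq_empty_of_forall_notMem fun x hx => hy' ?_)]
      · simp
      have h1 : f.base y ⤳ f.base (ι.base x) :=
        (specializes_iff_mem_closure.2 (hsG hx)).map f.base.hom.continuous
      rw [show f.base (ι.base x) = genericPoint T from (f.range_fiberι _).le ⟨x, rfl⟩] at h1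
      exact (h1.antisymm ((genericPoint_spec T).specializes trivial)).eq
    obtain ⟨y', hy''⟩ : y ∈ Set.range ι.base := (f.range_fiberι _).ge hy'
    let Y' : Set ↥(f.fiber (genericPoint T)) := ι.base ⁻¹' closure {y}
    have hY' : Y' = closure {y'} := by
      rw [(ι.isEmbedding.isInducing.closure_eq_preimage_closure_image {y'}), Set.image_singleton, hy'']
    have hYirr : IsIrreducible Y' := hY' ▸ isIrreducible_singleton.closure
    have hYd : topologicalKrullDim Y' ≤ d :=
      (topologicalKrullDim_set_mono (Set.preimage_mono (closure_minimal (Set.singleton_subset_iff.2 hy)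
        (CohSupport.isClosed_support M hM.2)))).trans hdim'
    have small : ∀ K : X.Modules, Coh.IsCoh K → CohB1.support K ⊆ closure {y} →
        CohSupport.len y K = 0 → Bdd f N d K := by
      intro K hK hsK hK0
      refine ih K hK (le_trans (topologicalKrullDim_add_one_le
        ((CohSupport.isClosed_support K hK.2).preimage ι.base.hom.continuous) hYirr (Set.preimage_mono hsK)
        fun he => ?_) hYd)
      have h1 : y' ∈ Y' := hY' ▸ subset_closure rfl
      rw [← he] at h1
      exact (CohSupport.len_eq_zero_iff y K).1 hK0 (hy'' ▸ h1)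
    refine Bdd.of_shift hN hNL hG fun j => ?_
    obtain ⟨H, a, b, hH, hsH, ha₁, ha₂, hb₁, hb₂⟩ := exists_linked (isCoh_tensor (hL j) hG) hG
      ((support_tensor (hL j) G).le.trans hsG) hsG (by rw [len_tensor (hL j), hlG]) hlG
    have hGj : Coh.IsCoh (CohB1.tensorMod G (L j)) := isCoh_tensor (hL j) hG
    haveI : Coh.IsQCoh H := hH.1
    have hka := CohKernel.isCoh_kernel_cokernel hGj hH a
    have hkb := CohKernel.isCoh_kernel_cokernel hG hH b
    obtain ⟨p, p'⟩ := Le.of_map hN hGj hH a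
      (small _ hka.1 ((Groth.L21.Mod.support_mono (kernel.ι a)).trans ((support_tensor (hL j) G).le.trans hsG)) ha₁)
      (small _ hka.2 ((Groth.L21.Mod.support_epi (cokernel.π a)).trans hsH) ha₂)
    obtain ⟨q, q'⟩ := Le.of_map hN hG hH b
      (small _ hkb.1 ((Groth.L21.Mod.support_mono (kernel.ι b)).trans hsG) hb₁)
      (small _ hkb.2 ((Groth.L21.Mod.support_epi (cokernel.π b)).trans hsH) hb₂)
    exact ⟨p.trans q', q.trans p'⟩

/-- The bound over a dense open of the base, in terms of the dimension of the generic fibre. -/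
theorem exists_open_bound {M : X.Modules} (hM : Coh.IsCoh M) {d : ℕ}
    (hd : topologicalKrullDim ↥(f.fiber (genericPoint T)) ≤ d) :
    ∃ U : T.Opens, genericPoint T ∈ U ∧ ∃ C : ℕ, ∀ t ∈ U, ∀ (a : Fin r → ℤ) (i : ℕ),
      CohIII.fiberRank f (CohB1.tensorMod M (N a)) i t ≤ C * (size a + 1) ^ d := by
  have h : gdim f (CohB1.support M) + 1 ≤ (d + 1 : ℕ) := by
    push_cast
    exact add_le_add_left ((Topology.IsInducing.subtypeVal.topologicalKrullDim_le).trans hd) 1
  obtain ⟨U, hU, C, hC⟩ := bdd_of_gdim_le hN hNL hL (d + 1) M hM h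
  exact ⟨U, hU, C, fun t ht a i => (hC t ht a i).trans_eq (by rw [gd_succ])⟩

end Groth.L17.UBound
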