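import Groth.Agent.L17.UBound.Rank
import Groth.Agent.L21.RR.BaseChange

/-!
# Fibre ranks and fibre dimensions after a base change
-/

set_option autoImplicit false
set_option linter.style.haveILetI false
set_option linter.unusedSectionVars false
set_option backward.isDefEq.respectTransparency false
set_option backward.isDefEq.respectTransparency.types false

universe u

open CategoryTheory CategoryTheory.Limits AlgebraicGeometry Groth.L16

noncomputable section

namespace Groth.L17.UBound

variable {X T X' T' : Scheme.{u}} {f : X ⟶ T} {f' : X' ⟶ T'} {g' : X' ⟶ X} {g : T' ⟶ T}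

/-- The map on fibres of a base change, as a base change along the residue fields. -/
theorem exists_fiber_map (hc : IsPullback g' f' f g) (t : T') :
    ∃ m : f'.fiber t ⟶ f.fiber (g t), m ≫ f.fiberι (g t) = f'.fiberι t ≫ g' ∧
      IsPullback m (f'.fiberToSpecResidueField t) (f.fiberToSpecResidueField (g t))
        (Spec.map (g.residueFieldMap t)) := by
  have hs : Spec.map (g.residueFieldMap t) ≫ T.fromSpecResidueField (g t) = T'.fromSpecResidueField t ≫ g :=
    Scheme.Hom.SpecMap_residueFieldMap_fromSpecResidueField g t
  have hbig : IsPullback (f'.fiberι t ≫ g') (f'.fiberToSpecResidueField t) f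
      (Spec.map (g.residueFieldMap t) ≫ T.fromSpecResidueField (g t)) := by
    rw [hs]
    exact (IsPullback.of_hasPullback f' (T'.fromSpecResidueField t)).paste_horiz hc
  have hbase : IsPullback (f.fiberι (g t)) (f.fiberToSpecResidueField (g t)) f (T.fromSpecResidueField (g t)) :=
    IsPullback.of_hasPullback _ _
  let m : f'.fiber t ⟶ f.fiber (g t) :=
    hbase.lift (f'.fiberι t ≫ g') (f'.fiberToSpecResidueField t ≫ Spec.map (g.residueFieldMap t))
      (hbig.w.trans (Category.assoc _ _ _).symm)
  refine ⟨m, hbase.lift_fst _ _ _, IsPullback.of_right ?_ (hbase.lift_snd _ _ _) hbase⟩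
  rwa [hbase.lift_fst]

/-- Fibre ranks are unchanged by base change. -/
theorem rk_pullback [IsProper f] [IsLocallyNoetherian T] (hc : IsPullback g' f' f g) {M : X.Modules}
    (hM : Coh.IsCoh M) (i : ℕ) (t : T') :
    CohIII.fiberRank f' ((Scheme.Modules.pullback g').obj M) i t = CohIII.fiberRank f M i (g t) := by
  obtain ⟨m, hm, sq⟩ := exists_fiber_map hc t
  letI := fibOver f (g t)
  letI := fibOver f' t
  haveI := isProper_fibOver f (g t)
  letI : Algebra (T.residueField (g t) : Type u) (T'.residueField t : Type u) := (g.residueFieldMap t).hom.toAlgebra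
  have key := Groth.L21.RR.h_pullback (k := (T.residueField (g t) : Type u)) (K := (T'.residueField t : Type u))
    m sq (isCoh_fiberMod f hM (g t)) i
  let e : CohIII.fiberMod f' ((Scheme.Modules.pullback g').obj M) t ≅
      (Scheme.Modules.pullback m).obj (CohIII.fiberMod f M (g t)) :=
    (Scheme.Modules.pullbackComp (f'.fiberι t) g').app M ≪≫ (Scheme.Modules.pullbackCongr hm.symm).app M ≪≫
      ((Scheme.Modules.pullbackComp m (f.fiberι (g t))).app M).symm
  exact (Groth.L03.Euler.finrank_HH_of_iso (k := (T'.residueField t : Type u)) e i).trans key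

/-- A fibre of a base change along an embedding is no bigger. -/
theorem dim_fiber_le (hc : IsPullback g' f' f g) (hg' : Topology.IsInducing g'.base) (t : T') :
    topologicalKrullDim ↥(f'.fiber t) ≤ topologicalKrullDim ↥(f.fiber (g t)) := by
  obtain ⟨m, hm, -⟩ := exists_fiber_map hc t
  have h1 : Topology.IsInducing ((f'.fiberι t ≫ g').base) := hg'.comp (f'.fiberι t).isEmbedding.isInducing
  rw [← hm] at h1
  exact (Topology.IsInducing.of_comp m.base.hom.continuous (f.fiberι (g t)).base.hom.continuous h1).topologicalKrullDim_le

end Groth.L17.UBound
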