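import Groth.Agent.L17.UBound.Bound
import Groth.Agent.L17.UBound.Fibre
import Groth.Agent.L20.GenGeomRed
import Groth.Agent.L29.DCoh.PullTensor
import Groth.Agent.L18.AmplePull

/-!
# Uniform bounds for fibre cohomology of twists over a Noetherian base
-/

set_option autoImplicit false
set_option linter.style.haveILetI false
set_option linter.unusedSectionVars false
set_option backward.isDefEq.respectTransparency false
set_option backward.isDefEq.respectTransparency.types false

universe u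

open CategoryTheory CategoryTheory.Limits AlgebraicGeometry TopologicalSpace Groth.L16 Groth.L03.Euler

noncomputable section

namespace Groth.L17.UBound

/-- The least natural number bound of a dimension, if there is one. -/
theorem exists_nat_le (x : WithBot ℕ∞) :
    (∀ e : ℕ, ¬ x ≤ e) ∨ ∃ d : ℕ, x ≤ d ∧ ∀ e : ℕ, x ≤ e → d ≤ e := by
  by_cases h : ∃ e : ℕ, x ≤ e
  · exact Or.inr ⟨sInf {e : ℕ | x ≤ e}, Nat.sInf_mem h, fun e he => Nat.sInf_le he⟩
  · exact Or.inl fun e he => h ⟨e, he⟩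

variable {X T : Scheme.{u}} {f : X ⟶ T} [IsProper f] [IsNoetherian T]
  {r : ℕ} {N : (Fin r → ℤ) → X.Modules} {L : Fin r → X.Modules} {M : X.Modules}

variable (f N M) in
/-- The bound on a subset of the base. -/
def BddOn (S : Set T) : Prop :=
  ∃ C : ℕ, ∀ t ∈ S, ∀ e : ℕ, topologicalKrullDim ↥(f.fiber t) ≤ e → ∀ a : Fin r → ℤ, 1 ≤ size a →
    ∀ i, CohIII.fiberRank f (CohB1.tensorMod M (N a)) i t ≤ C * size a ^ e

variable (hN : ∀ a, PicF.IsInvertible (N a)) (hL : ∀ j, PicF.IsInvertible (L j))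
  (hNL : ∀ a j, Nonempty (N (a + Pi.single j 1) ≅ CohB1.tensorMod (N a) (L j))) (hM : Coh.IsCoh M)

include hN hL hNL hM

/-- The bound near the generic point of an integral closed subset. -/
theorem exists_open_bddOn (ξ : T) : ∃ W : T.Opens, ξ ∈ W ∧ BddOn f N M ((W : Set T) ∩ closure {ξ}) := by
  obtain ⟨Z, i, hi, hZ, hgen, hrange⟩ := CohClosedPush.exists_integral ξ
  haveI : IsLocallyNoetherian Z := LocallyOfFiniteType.isLocallyNoetherian i
  haveI : CompactSpace Z := QuasiCompact.compactSpace_of_compactSpace i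
  haveI : IsNoetherian Z := {}
  haveI : IsNoetherian X := isNoetherian_source f
  let g' := pullback.fst f i
  let f' := pullback.snd f i
  have hc : IsPullback g' f' f i := IsPullback.of_hasPullback f i
  haveI : IsProper f' := MorphismProperty.pullback_snd _ _ inferInstance
  haveI : IsClosedImmersion g' := MorphismProperty.pullback_fst _ _ inferInstance
  haveI : IsLocallyNoetherian (pullback f i) := LocallyOfFiniteType.isLocallyNoetherian g'
  let P := Scheme.Modules.pullback g'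
  have hN' : ∀ a, PicF.IsInvertible (P.obj (N a)) := fun a => Groth.L18.Ample.isInvertible_pullback g' (hN a)
  have hL' : ∀ j, PicF.IsInvertible (P.obj (L j)) := fun j => Groth.L18.Ample.isInvertible_pullback g' (hL j)
  have hNL' : ∀ a j, Nonempty (P.obj (N (a + Pi.single j 1)) ≅ CohB1.tensorMod (P.obj (N a)) (P.obj (L j))) :=
    fun a j => (hNL a j).map fun e => P.mapIso e ≪≫ (Groth.L29.DC.PullTensor.pullTensor g' (N a) (L j)).symm
  have hM' : Coh.IsCoh (P.obj M) := Groth.L16.AffineBC.isCoh_pullback g' hM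
  obtain ⟨V, hV, hV'⟩ := Groth.L20.GenGeomRed.exists_fibre_dim_eq f'
  rcases exists_nat_le (topologicalKrullDim ↥(f'.fiber (genericPoint Z))) with hinf | ⟨d, hd, hmin⟩
  · obtain ⟨W, hW, hWV⟩ := (i.isEmbedding.isInducing.isOpen_iff).1 V.2
    refine ⟨⟨W, hW⟩, hgen ▸ (show genericPoint Z ∈ i.base ⁻¹' W from hWV ▸ mem_of_nonempty hV), 0,
      fun t ht e he => ?_⟩
    obtain ⟨z, rfl⟩ : t ∈ Set.range i.base := hrange.ge ht.2
    have hz : z ∈ V := by
      exact (Set.ext_iff.1 hWV z).1 ht.1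
    exact absurd ((hV' z hz).symm.le.trans ((dim_fiber_le hc g'.isEmbedding.isInducing z).trans he)) (hinf e)
  obtain ⟨U, hU, C, hC⟩ := exists_open_bound (f := f') hN' hNL' hL' hM' hd
  obtain ⟨W, hW, hWV⟩ := (i.isEmbedding.isInducing.isOpen_iff).1 (U ⊓ V).2
  refine ⟨⟨W, hW⟩, hgen ▸ (show genericPoint Z ∈ i.base ⁻¹' W from hWV ▸ ⟨hU, mem_of_nonempty hV⟩), C * 2 ^ d,
    fun t ht e he a ha p => ?_⟩
  obtain ⟨z, rfl⟩ : t ∈ Set.range i.base := hrange.ge ht.2
  have hz : z ∈ U ⊓ V := by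
    exact (Set.ext_iff.1 hWV z).1 ht.1
  have hde : d ≤ e := hmin e ((hV' z hz.2).symm.le.trans ((dim_fiber_le hc g'.isEmbedding.isInducing z).trans he))
  rw [← rk_pullback hc (isCoh_tensor (hN a) hM) p z,
    ← rk_congr f' (Groth.L29.DC.PullTensor.pullTensor g' M (N a)) p z]
  refine (hC z hz.1 a p).trans ?_
  rw [mul_assoc]
  refine Nat.mul_le_mul_left _ (le_trans ?_ (Nat.mul_le_mul_left _ (Nat.pow_le_pow_right ha hde)))
  rw [← mul_pow]
  exact Nat.pow_le_pow_left (by omega) d

/-- Twisted fibre ranks grow at most like the power of the dimension of the fibre, uniformly. -/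
theorem bddOn_univ : BddOn f N M (Set.univ : Set T) := by
  suffices ∀ Z : Closeds T, BddOn f N M (Z : Set T) from this ⊤
  intro Z
  induction Z using WellFoundedLT.induction with
  | ind Z IH =>
    by_cases hne : (Z : Set T).Nonempty
    swap
    · exact ⟨0, fun t ht => absurd ⟨t, ht⟩ hne⟩
    by_cases hirr : IsPreirreducible (Z : Set T)
    · obtain ⟨ξ, hξ⟩ := QuasiSober.sober ⟨hne, hirr⟩ Z.isClosed
      obtain ⟨W, hξW, C, hC⟩ := exists_open_bddOn (f := f) hN hL hNL hM ξ
      let Z' : Closeds T := ⟨(Z : Set T) \ W, Z.isClosed.sdiff W.2⟩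
      have hlt : Z' < Z := lt_of_le_of_ne (show Z' ≤ Z from Set.sdiff_subset) fun he => by
        have : ξ ∈ (Z' : Set T) := he.symm ▸ hξ.mem
        exact this.2 hξW
      obtain ⟨C', hC'⟩ := IH Z' hlt
      refine ⟨C + C', fun t ht e he a ha p => ?_⟩
      by_cases htW : t ∈ W
      · exact (hC t ⟨htW, hξ.def.ge ht⟩ e he a ha p).trans (Nat.mul_le_mul_right _ (Nat.le_add_right _ _))
      · exact (hC' t ⟨ht, htW⟩ e he a ha p).trans (Nat.mul_le_mul_right _ (Nat.le_add_left _ _))
    · simp only [IsPreirreducible, not_forall, exists_prop] at hirr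
      obtain ⟨u, v, hu, hv, ⟨x, hx⟩, ⟨y, hy⟩, hxy⟩ := hirr
      let Z₁ : Closeds T := ⟨(Z : Set T) \ u, Z.isClosed.sdiff hu⟩
      let Z₂ : Closeds T := ⟨(Z : Set T) \ v, Z.isClosed.sdiff hv⟩
      have h₁ : Z₁ < Z := lt_of_le_of_ne (show Z₁ ≤ Z from Set.sdiff_subset) fun he => by
        have : x ∈ (Z₁ : Set T) := he.symm ▸ hx.1
        exact this.2 hx.2
      have h₂ : Z₂ < Z := lt_of_le_of_ne (show Z₂ ≤ Z from Set.sdiff_subset) fun he => by
        have : y ∈ (Z₂ : Set T) := he.symm ▸ hy.1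
        exact this.2 hy.2
      obtain ⟨C, hC⟩ := IH Z₁ h₁
      obtain ⟨C', hC'⟩ := IH Z₂ h₂
      refine ⟨C + C', fun t ht e he a ha p => ?_⟩
      by_cases htu : t ∈ u
      · refine (hC' t ⟨ht, fun htv => hxy ⟨t, ht, htu, htv⟩⟩ e he a ha p).trans
          (Nat.mul_le_mul_right _ (Nat.le_add_left _ _))
      · exact (hC t ⟨ht, htu⟩ e he a ha p).trans (Nat.mul_le_mul_right _ (Nat.le_add_right _ _))

end Groth.L17.UBound
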